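import Groth.Agent.AgPol.K116.ChGrp

/-!
# The locus of abelian schemes in the pointed Hilbert scheme
-/

set_option autoImplicit false
universe u

open CategoryTheory Limits MonoidalCategory CartesianMonoidalCategory AlgebraicGeometry
open scoped MonObj

namespace K116.ChAb

open K117.Ag K390.PnSec K116.ChHilb K116.ChCart K116.ChGrp

theorem cart_cons {P : Scheme.{u}} {N : ℕ} {T T' : Scheme.{u}} {X : Over T} {X' : Over T'}
    {s : Fin N → (𝟙_ (Over T) ⟶ X)} {s₀ : 𝟙_ (Over T) ⟶ X} {s' : Fin (N + 1) → (𝟙_ (Over T') ⟶ X')}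
    {r : X.left ⟶ P} {r' : X'.left ⟶ P} {f : T ⟶ T'} {q : X.left ⟶ X'.left}
    (h : Cart s (fun i => s' i.succ) r r' f q) (h₀ : s₀.left ≫ q = f ≫ (s' 0).left) :
    Cart (Fin.cons s₀ s : Fin (N + 1) → (𝟙_ (Over T) ⟶ X)) s' r r' f q where
  sq := h.sq
  hr := h.hr
  hs i := Fin.cases h₀ h.hs i

theorem cart_tail {P : Scheme.{u}} {N : ℕ} {T T' : Scheme.{u}} {X : Over T} {X' : Over T'}
    {s : Fin N → (𝟙_ (Over T) ⟶ X)} {s₀ : 𝟙_ (Over T) ⟶ X} {s' : Fin (N + 1) → (𝟙_ (Over T') ⟶ X')}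
    {r : X.left ⟶ P} {r' : X'.left ⟶ P} {f : T ⟶ T'} {q : X.left ⟶ X'.left}
    (h : Cart (Fin.cons s₀ s : Fin (N + 1) → (𝟙_ (Over T) ⟶ X)) s' r r' f q) :
    Cart s (fun i => s' i.succ) r r' f q ∧ s₀.left ≫ q = f ≫ (s' 0).left :=
  ⟨⟨h.sq, h.hr, fun i => h.hs i.succ⟩, h.hs 0⟩

/-- The abelian schemes with `N` points and a closed embedding in projective space. -/
theorem exists_abelian {m : ℕ} {Φ : Polynomial ℚ} (hH : Node.Hilb.{u} m Φ) (hAb : Node.AbLocus.{u}) (N g : ℕ) :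
    ∃ (U : Scheme.{u}) (A : Over U) (_ : GrpObj A) (rU : A.left ⟶ PZ.{u} m) (sU : Fin N → (𝟙_ (Over U) ⟶ A)),
      IsNoetherian U ∧ (∀ h : U ⟶ SZ.{u}, LocallyOfFiniteType h) ∧ Node.HilbGood m Φ A.hom rU ∧
      AgPol.IsAbSch A g ∧
      ∀ (T : Scheme.{u}) [IsLocallyNoetherian T] (X : Over T) [GrpObj X] (r : X.left ⟶ PZ.{u} m)
        (s : Fin N → (𝟙_ (Over T) ⟶ X)), Node.HilbGood m Φ X.hom r → AgPol.IsAbSch X g →
        (∃ (y : T ⟶ U) (q : X.left ⟶ A.left), Cart s sU r rU y q ∧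
          (η[X] : 𝟙_ (Over T) ⟶ X).left ≫ q = y ≫ (η[A] : 𝟙_ (Over U) ⟶ A).left) ∧
        ∀ (y y' : T ⟶ U) (q q' : X.left ⟶ A.left), Cart s sU r rU y q →
          (η[X] : 𝟙_ (Over T) ⟶ X).left ≫ q = y ≫ (η[A] : 𝟙_ (Over U) ⟶ A).left → Cart s sU r rU y' q' →
          (η[X] : 𝟙_ (Over T) ⟶ X).left ≫ q' = y' ≫ (η[A] : 𝟙_ (Over U) ⟶ A).left → y = y' := by
  obtain ⟨Y, XY, rY, sY, hYN, hYft, hYg, huniv⟩ := exists_pointed hH (N + 1)
  let i : XY ⟶ Over.mk (CohB1.ProjSpaceOver.toBase m Y) := Over.homMk (liftP rY XY.hom) (liftP_toBase _ _)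
  have hi : IsClosedImmersion i.left := hYg.closed
  have hfl : Flat XY.hom := hYg.flat
  obtain ⟨U, hU⟩ := hAb Y XY m i (sY 0) g
  have hUN : IsNoetherian (U : Scheme.{u}) := by
    have h1 := LocallyOfFiniteType.isLocallyNoetherian U.ι
    have h2 : CompactSpace (U : Scheme.{u}) :=
      isCompact_iff_compactSpace.1 (TopologicalSpace.NoetherianSpace.isCompact (U : Set Y))
    exact ⟨⟩
  obtain ⟨hA, G, hG⟩ := (hU U U.ι).1 (by rw [Scheme.Opens.range_ι])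
  have hbc : Cart (X := Red.bc U.ι XY) (fun i => secBc U.ι (sY i)) sY (pullback.fst XY.hom U.ι ≫ rY) rY U.ι
    (pullback.fst XY.hom U.ι) := Cart.bc U.ι sY rY
  refine ⟨U, Red.bc U.ι XY, G, pullback.fst XY.hom U.ι ≫ rY, fun i => secBc U.ι (sY i.succ), hUN, ?_,
    hilbGood_bc hbc.sq hYg, hA, ?_⟩
  · intro h
    have h1 := hYft (specULiftZIsTerminal.from Y)
    have h2 : h = U.ι ≫ specULiftZIsTerminal.from Y := specULiftZIsTerminal.hom_ext _ _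
    rw [h2]
    infer_instance
  intro T _ X _ r s hX hXA
  obtain ⟨⟨y, q₀, hq₀⟩, huq⟩ := huniv T X r (Fin.cons η[X] s) hX
  constructor
  · have hy : Set.range y ⊆ (U : Set Y) := by
      refine (hU T y).2 ⟨isAbSch_of_iso (cmp hq₀.sq).symm hXA, ?_⟩
      refine ⟨GrpObj.ofIso (cmp hq₀.sq), ?_⟩
      have h0 := comp_cmp hq₀.sq (hq₀.hs 0)
      exact h0
    let u : T ⟶ (U : Scheme.{u}) := IsOpenImmersion.lift U.ι y (by rw [Scheme.Opens.range_ι]; exact hy)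
    have hu : u ≫ U.ι = y := IsOpenImmersion.lift_fac _ _ _
    obtain ⟨q, -, hq⟩ := hbc.exists_lift (f := u) (q₀ := q₀) (hu.symm ▸ hq₀)
    obtain ⟨h1, h2⟩ := cart_tail hq
    exact ⟨u, q, h1, by rw [hG]; exact h2⟩
  · intro y y' q q' hq hη hq' hη'
    rw [hG] at hη hη'
    have h1 := (cart_cons (s' := fun i => secBc U.ι (sY i)) hq hη).comp hbc
    have h2 := (cart_cons (s' := fun i => secBc U.ι (sY i)) hq' hη').comp hbc
    have h3 := huq _ _ _ _ h1 h2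
    exact (cancel_mono U.ι).1 h3

end K116.ChAb
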