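import Mathlib.AlgebraicGeometry.Morphisms.FiniteType
import Mathlib.AlgebraicGeometry.Morphisms.QuasiCompact
import Mathlib.CategoryTheory.Comma.Over.Basic
import Mathlib.AlgebraicGeometry.Noetherian

/-!
# Fibre powers and intersections of representable conditions

* `exists_power` : the `n`-fold fibre power of `Z` over `H`.
* `exists_forall` : a finite family of conditions on morphisms `T' ⟶ U`, each represented by an immersion (a morphism
  with a property `W`), is represented by an immersion.
-/

set_option autoImplicit false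
universe u

open CategoryTheory Limits AlgebraicGeometry

namespace K116.ChPow

/-- Fibre powers. -/
theorem exists_power {H : Scheme.{u}} (Z : Over H) (n : ℕ) : ∃ (Y : Over H) (pr : Fin n → (Y ⟶ Z)),
    (∀ (T : Over H) (f : Fin n → (T ⟶ Z)), ∃! h : T ⟶ Y, ∀ i, h ≫ pr i = f i) ∧
    (LocallyOfFiniteType Z.hom → LocallyOfFiniteType Y.hom) ∧ (QuasiCompact Z.hom → QuasiCompact Y.hom) := by
  induction n with
  | zero =>
    refine ⟨Over.mk (𝟙 H), fun i => i.elim0, ?_, ?_, ?_⟩
    · intro T f
      exact ⟨Over.homMk T.hom (by simp), fun i => i.elim0, fun h _ => by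
        ext1
        have := Over.w h
        simpa using this⟩
    · intro _
      change LocallyOfFiniteType (𝟙 H)
      infer_instance
    · intro _
      change QuasiCompact (𝟙 H)
      infer_instance
  | succ n ih =>
    obtain ⟨Y, pr, hY, h1, h2⟩ := ih
    refine ⟨Over.mk (pullback.fst Z.hom Y.hom ≫ Z.hom),
      Fin.cons (Over.homMk (pullback.fst Z.hom Y.hom) rfl)
        (fun i => Over.homMk (pullback.snd Z.hom Y.hom) pullback.condition.symm ≫ pr i), ?_, ?_, ?_⟩
    · intro T f
      obtain ⟨h, hh, hu⟩ := hY T (fun i => f i.succ)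
      refine ⟨Over.homMk (pullback.lift (f 0).left h.left ((Over.w (f 0)).trans (Over.w h).symm)) ?_, ?_, ?_⟩
      · change pullback.lift _ _ _ ≫ pullback.fst Z.hom Y.hom ≫ Z.hom = T.hom
        rw [← Category.assoc, pullback.lift_fst]
        exact Over.w (f 0)
      · intro i
        refine Fin.cases ?_ (fun i => ?_) i
        · ext1
          exact pullback.lift_fst _ _ _
        · rw [Fin.cons_succ, ← hh i]
          rw [← Category.assoc]
          congr 1
          ext1
          exact pullback.lift_snd _ _ _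
      · intro k hk
        have h3 : k ≫ Over.homMk (pullback.snd Z.hom Y.hom) pullback.condition.symm = h := by
          apply hu
          intro i
          have := hk i.succ
          rw [Fin.cons_succ] at this
          rw [Category.assoc]
          exact this
        have h4 : k ≫ Over.homMk (pullback.fst Z.hom Y.hom) rfl = f 0 := hk 0
        ext1
        apply pullback.hom_ext
        · refine Eq.trans ?_ (pullback.lift_fst _ _ _).symm
          exact congrArg CommaMorphism.left h4
        · refine Eq.trans ?_ (pullback.lift_snd _ _ _).symm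
          exact congrArg CommaMorphism.left h3
    · intro hZ
      have := h1 hZ
      change LocallyOfFiniteType (pullback.fst Z.hom Y.hom ≫ Z.hom)
      infer_instance
    · intro hZ
      have := h2 hZ
      change QuasiCompact (pullback.fst Z.hom Y.hom ≫ Z.hom)
      infer_instance

/-- The condition `P` on morphisms to `U` from locally Noetherian schemes is represented by a morphism `Z ⟶ U` with the
property `W`. -/
def Repr (W : MorphismProperty Scheme.{u}) {U : Scheme.{u}} (P : ∀ T' : Scheme.{u}, (T' ⟶ U) → Prop) : Prop :=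
  ∃ (Z : Scheme.{u}) (z : Z ⟶ U), W z ∧
    ∀ (T' : Scheme.{u}) [IsLocallyNoetherian T'] (f : T' ⟶ U), P T' f ↔ ∃ h : T' ⟶ Z, h ≫ z = f

theorem Repr.and {W : MorphismProperty Scheme.{u}} [W.IsStableUnderComposition] [W.IsStableUnderBaseChange]
    {U : Scheme.{u}} {P Q : ∀ T' : Scheme.{u}, (T' ⟶ U) → Prop} (hP : Repr W P) (hQ : Repr W Q) :
    Repr W (fun T' f => P T' f ∧ Q T' f) := by
  obtain ⟨Z, z, hz, hZ⟩ := hP
  obtain ⟨Z', z', hz', hZ'⟩ := hQ
  refine ⟨pullback z z', pullback.fst z z' ≫ z, W.comp_mem _ _ (W.pullback_fst _ _ hz') hz, ?_⟩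
  intro T' _ f
  change P T' f ∧ Q T' f ↔ _
  rw [hZ, hZ']
  constructor
  · rintro ⟨⟨a, ha⟩, ⟨b, hb⟩⟩
    exact ⟨pullback.lift a b (ha.trans hb.symm), by rw [pullback.lift_fst_assoc, ha]⟩
  · rintro ⟨h, hh⟩
    exact ⟨⟨h ≫ pullback.fst _ _, by rw [Category.assoc, hh]⟩,
      ⟨h ≫ pullback.snd _ _, by rw [Category.assoc, ← pullback.condition, hh]⟩⟩

theorem Repr.congr {W : MorphismProperty Scheme.{u}}
    {U : Scheme.{u}} {P Q : ∀ T' : Scheme.{u}, (T' ⟶ U) → Prop} (hP : Repr W P)
    (h : ∀ (T' : Scheme.{u}) [IsLocallyNoetherian T'] (f : T' ⟶ U), P T' f ↔ Q T' f) : Repr W Q := by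
  obtain ⟨Z, z, hz, hZ⟩ := hP
  exact ⟨Z, z, hz, fun T' _ f => by rw [← h, hZ]⟩

theorem Repr.forall {W : MorphismProperty Scheme.{u}} [W.IsStableUnderComposition] [W.IsStableUnderBaseChange]
    [W.ContainsIdentities] {U : Scheme.{u}} {n : ℕ} (P : Fin n → ∀ T' : Scheme.{u}, (T' ⟶ U) → Prop)
    (hP : ∀ i, Repr W (P i)) : Repr W (fun T' f => ∀ i, P i T' f) := by
  induction n with
  | zero =>
    refine ⟨U, 𝟙 U, W.id_mem _, fun T' _ f => ?_⟩
    exact ⟨fun _ => ⟨f, Category.comp_id _⟩, fun _ i => i.elim0⟩
  | succ n ih =>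
    refine (Repr.and (hP 0) (ih (fun i => P i.succ) fun i => hP i.succ)).congr ?_
    intro T' _ f
    constructor
    · rintro ⟨h0, h1⟩ i
      exact Fin.cases h0 h1 i
    · intro h
      exact ⟨h 0, fun i => h i.succ⟩

end K116.ChPow
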