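import Groth.Agent.AgPol.K116.ChHilb
import Groth.Agent.AgPol.K116.ChPow
import Groth.Agent.Flat2G.ProperDim

/-!
# Cartesian morphisms of pointed schemes with a morphism to projective space

* `Cart s s' r r' u q` : `q : X ⟶ X'` is cartesian over `u : T ⟶ T'`, compatible with the sections and with the
  morphisms `r`, `r'` to a fixed scheme.
* `exists_pointed` : the scheme of pointed families parametrised by the Hilbert scheme.
-/

set_option autoImplicit false
universe u

open CategoryTheory Limits MonoidalCategory CartesianMonoidalCategory AlgebraicGeometry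

namespace K116.ChCart

open K117.Ag K390.PnSec Groth.Agent.Dix.ProjProper K116.ChHilb

section cmp

variable {T T' : Scheme.{u}} {X : Over T} {X' : Over T'} {q : X.left ⟶ X'.left} {f : T ⟶ T'}

/-- A cartesian square identifies `X` with the base change. -/
noncomputable def cmp (sq : IsPullback q X.hom X'.hom f) : X ≅ Red.bc f X' :=
  Over.isoMk sq.isoPullback sq.isoPullback_hom_snd

@[reassoc]
theorem cmp_fst (sq : IsPullback q X.hom X'.hom f) : (cmp sq).hom.left ≫ pullback.fst X'.hom f = q :=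
  sq.isoPullback_hom_fst

@[reassoc]
theorem cmp_inv_fst (sq : IsPullback q X.hom X'.hom f) : (cmp sq).inv.left ≫ q = pullback.fst X'.hom f :=
  sq.isoPullback_inv_fst

@[reassoc]
theorem secBc_fst (f : T ⟶ T') (s : 𝟙_ (Over T') ⟶ X') : (secBc f s).left ≫ pullback.fst X'.hom f = f ≫ s.left :=
  pullback.lift_fst _ _ _

theorem hom_ext_bc {Z : Over T} {a b : Z ⟶ Red.bc f X'}
    (h : a.left ≫ pullback.fst X'.hom f = b.left ≫ pullback.fst X'.hom f) : a = b := by
  ext1
  apply pullback.hom_ext h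
  have h1 : a.left ≫ pullback.snd X'.hom f = Z.hom := Over.w a
  have h2 : b.left ≫ pullback.snd X'.hom f = Z.hom := Over.w b
  exact h1.trans h2.symm

theorem comp_cmp (sq : IsPullback q X.hom X'.hom f) {s : 𝟙_ (Over T) ⟶ X} {s' : 𝟙_ (Over T') ⟶ X'}
    (h : s.left ≫ q = f ≫ s'.left) : s ≫ (cmp sq).hom = secBc f s' := by
  apply hom_ext_bc
  rw [Over.comp_left, Category.assoc, cmp_fst, secBc_fst]
  exact h

theorem isAbSch_of_isPullback {g : ℕ} (sq : IsPullback q X.hom X'.hom f) (h : AgPol.IsAbSch X' g) :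
    AgPol.IsAbSch X g where
  smooth := MorphismProperty.of_isPullback sq h.smooth
  proper := MorphismProperty.of_isPullback sq h.proper
  geomConnected := MorphismProperty.of_isPullback sq h.geomConnected
  fibreDim s := by
    have := h.smooth
    rw [Groth.Agent.Flat2G.ProperDim.topologicalKrullDim_fiber_baseChange X'.hom X.hom q f sq s]
    exact h.fibreDim _

theorem isAbSch_of_iso {g : ℕ} {X Y : Over T} (e : X ≅ Y) (h : AgPol.IsAbSch Y g) : AgPol.IsAbSch X g := by
  refine isAbSch_of_isPullback (q := e.hom.left) (f := 𝟙 T) ?_ h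
  exact IsPullback.of_horiz_isIso ⟨by rw [Category.comp_id]; exact Over.w e.hom⟩

theorem isAbSch_bc {g : ℕ} (f : T ⟶ T') (h : AgPol.IsAbSch X' g) : AgPol.IsAbSch (Red.bc f X') g :=
  isAbSch_of_isPullback (IsPullback.of_hasPullback X'.hom f) h

end cmp

/-- Cartesian morphisms compatible with sections and with morphisms to `P`. -/
structure Cart {P : Scheme.{u}} {ι : Type} {T T' : Scheme.{u}} {X : Over T} {X' : Over T'}
    (s : ι → (𝟙_ (Over T) ⟶ X)) (s' : ι → (𝟙_ (Over T') ⟶ X')) (r : X.left ⟶ P) (r' : X'.left ⟶ P)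
    (f : T ⟶ T') (q : X.left ⟶ X'.left) : Prop where
  sq : IsPullback q X.hom X'.hom f
  hr : q ≫ r' = r
  hs : ∀ i, (s i).left ≫ q = f ≫ (s' i).left

namespace Cart

variable {P : Scheme.{u}} {ι : Type} {T T' T'' : Scheme.{u}} {X : Over T} {X' : Over T'} {X'' : Over T''}
    {s : ι → (𝟙_ (Over T) ⟶ X)} {s' : ι → (𝟙_ (Over T') ⟶ X')} {s'' : ι → (𝟙_ (Over T'') ⟶ X'')}
    {r : X.left ⟶ P} {r' : X'.left ⟶ P} {r'' : X''.left ⟶ P}
    {f : T ⟶ T'} {q : X.left ⟶ X'.left} {f' : T' ⟶ T''} {q' : X'.left ⟶ X''.left}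

theorem comp (h : Cart s s' r r' f q) (h' : Cart s' s'' r' r'' f' q') : Cart s s'' r r'' (f ≫ f') (q ≫ q') where
  sq := h.sq.paste_horiz h'.sq
  hr := by rw [Category.assoc, h'.hr, h.hr]
  hs i := by rw [← Category.assoc, h.hs, Category.assoc, h'.hs, Category.assoc]

/-- The canonical cartesian morphism of a base change. -/
theorem bc (f : T ⟶ T') (s' : ι → (𝟙_ (Over T') ⟶ X')) (r' : X'.left ⟶ P) :
    Cart (X := Red.bc f X') (fun i => secBc f (s' i)) s' (pullback.fst X'.hom f ≫ r') r' f (pullback.fst X'.hom f) where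
  sq := IsPullback.of_hasPullback X'.hom f
  hr := rfl
  hs i := secBc_fst f (s' i)

/-- Factor a cartesian morphism through a base change. -/
theorem exists_lift (h' : Cart s' s'' r' r'' f' q') {f : T ⟶ T'} {q₀ : X.left ⟶ X''.left}
    (h : Cart s s'' r r'' (f ≫ f') q₀) : ∃ q, q ≫ q' = q₀ ∧ Cart s s' r r' f q := by
  let q : X.left ⟶ X'.left := h'.sq.lift q₀ (X.hom ≫ f) (by rw [h.sq.w, Category.assoc])
  have h1 : q ≫ q' = q₀ := h'.sq.lift_fst _ _ _
  have h2 : q ≫ X'.hom = X.hom ≫ f := h'.sq.lift_snd _ _ _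
  refine ⟨q, h1, ?_, ?_, ?_⟩
  · exact IsPullback.of_right (by rw [h1]; exact h.sq) h2 h'.sq
  · rw [← h'.hr, ← Category.assoc, h1, h.hr]
  · intro i
    apply h'.sq.hom_ext
    · rw [Category.assoc, h1, h.hs, Category.assoc, Category.assoc, h'.hs]
    · have h3 : (s i).left ≫ X.hom = 𝟙 T := Over.w (s i)
      have h4 : (s' i).left ≫ X'.hom = 𝟙 T' := Over.w (s' i)
      have e1 : (s i).left ≫ X.hom ≫ f = f := by
        rw [← Category.assoc]
        exact (congrArg (· ≫ f) h3).trans (Category.id_comp f)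
      have e2 : f ≫ (s' i).left ≫ X'.hom = f := (congrArg (f ≫ ·) h4).trans (Category.comp_id f)
      rw [Category.assoc, h2, Category.assoc]
      exact e1.trans e2.symm

end Cart

/-- The Hilbert scheme with `N` points of the universal family. -/
theorem exists_pointed {m : ℕ} {Φ : Polynomial ℚ} (hH : Node.Hilb.{u} m Φ) (N : ℕ) :
    ∃ (Y : Scheme.{u}) (XY : Over Y) (rY : XY.left ⟶ PZ.{u} m) (sY : Fin N → (𝟙_ (Over Y) ⟶ XY)),
      IsNoetherian Y ∧ (∀ h : Y ⟶ SZ.{u}, LocallyOfFiniteType h) ∧ Node.HilbGood m Φ XY.hom rY ∧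
      ∀ (T : Scheme.{u}) [IsLocallyNoetherian T] (X : Over T) (r : X.left ⟶ PZ.{u} m)
        (s : Fin N → (𝟙_ (Over T) ⟶ X)), Node.HilbGood m Φ X.hom r →
        (∃ (y : T ⟶ Y) (q : X.left ⟶ XY.left), Cart s sY r rY y q) ∧
        ∀ (y y' : T ⟶ Y) (q q' : X.left ⟶ XY.left), Cart s sY r rY y q → Cart s sY r rY y' q' → y = y' := by
  obtain ⟨H, X₀, p, j, hHN, hX₀, hft, huniv⟩ := hH
  obtain ⟨Y, pr, hY, hY1, hY2⟩ := K116.ChPow.exists_power (Over.mk p) N
  have hp : IsProper p := isProper_of_closed hX₀.closed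
  have hlft : LocallyOfFiniteType Y.hom := hY1 (inferInstanceAs (LocallyOfFiniteType p))
  have hqc : QuasiCompact Y.hom := hY2 (inferInstanceAs (QuasiCompact p))
  have hYN : IsNoetherian Y.left := by
    have h1 := LocallyOfFiniteType.isLocallyNoetherian Y.hom
    have h2 : CompactSpace Y.left := QuasiCompact.compactSpace_of_compactSpace Y.hom
    exact ⟨⟩
  let XY : Over Y.left := Red.bc Y.hom (Over.mk p)
  let sY : Fin N → (𝟙_ (Over Y.left) ⟶ XY) := fun i =>
    Over.homMk (pullback.lift (pr i).left (𝟙 _) (by rw [Category.id_comp]; exact Over.w (pr i)))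
      (pullback.lift_snd _ _ _)
  have hsY : ∀ i, (sY i).left ≫ pullback.fst p Y.hom = (pr i).left := fun i => pullback.lift_fst _ _ _
  have hXY : IsPullback (pullback.fst p Y.hom) XY.hom p Y.hom := IsPullback.of_hasPullback p Y.hom
  refine ⟨Y.left, XY, pullback.fst p Y.hom ≫ j, sY, hYN, ?_, hilbGood_bc hXY hX₀, ?_⟩
  · intro h
    have h1 := (hft (specULiftZIsTerminal.from H)).1
    have h2 : h = Y.hom ≫ specULiftZIsTerminal.from H := specULiftZIsTerminal.hom_ext _ _
    rw [h2]
    infer_instance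
  intro T _ X r s hX
  obtain ⟨a, ⟨Q, hQ1, hQ2⟩, hau⟩ := huniv T X.left X.hom r hX
  constructor
  · have hw : ∀ i, ((s i).left ≫ Q) ≫ p = a := fun i => by
      have h3 : (s i).left ≫ X.hom = 𝟙 T := Over.w (s i)
      rw [Category.assoc, hQ1.w, ← Category.assoc]
      exact (congrArg (· ≫ a) h3).trans (Category.id_comp a)
    obtain ⟨y, hy, -⟩ := hY (Over.mk a) (fun i => Over.homMk ((s i).left ≫ Q) (hw i))
    have hya : y.left ≫ Y.hom = a := Over.w y
    let q : X.left ⟶ XY.left := hXY.lift Q (X.hom ≫ y.left) (by rw [Category.assoc, hya, hQ1.w])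
    have h1 : q ≫ pullback.fst p Y.hom = Q := hXY.lift_fst _ _ _
    have h2 : q ≫ XY.hom = X.hom ≫ y.left := hXY.lift_snd _ _ _
    refine ⟨y.left, q, IsPullback.of_right (by rw [h1, hya]; exact hQ1) h2 hXY, ?_, ?_⟩
    · rw [← Category.assoc, h1, hQ2]
    · intro i
      apply hXY.hom_ext
      · rw [Category.assoc, h1, Category.assoc, hsY]
        exact (congrArg CommaMorphism.left (hy i)).symm
      · have h3 : (s i).left ≫ X.hom = 𝟙 T := Over.w (s i)
        have h4 : (sY i).left ≫ XY.hom = 𝟙 Y.left := Over.w (sY i)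
        have e1 : (s i).left ≫ X.hom ≫ y.left = y.left := by
          rw [← Category.assoc]
          exact (congrArg (· ≫ y.left) h3).trans (Category.id_comp y.left)
        have e2 : y.left ≫ (sY i).left ≫ XY.hom = y.left :=
          (congrArg (y.left ≫ ·) h4).trans (Category.comp_id y.left)
        rw [Category.assoc, h2, Category.assoc]
        exact e1.trans e2.symm
  · have key : ∀ (y : T ⟶ Y.left) (q : X.left ⟶ XY.left), Cart s sY r (pullback.fst p Y.hom ≫ j) y q →
        ∃ hy : y ≫ Y.hom = a, q ≫ pullback.fst p Y.hom = Q ∧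
          ∀ i, (Over.homMk y hy : Over.mk a ⟶ Y) ≫ pr i =
            (Over.homMk ((s i).left ≫ Q) (by
              have h3 : (s i).left ≫ X.hom = 𝟙 T := Over.w (s i)
              change ((s i).left ≫ Q) ≫ p = a
              rw [Category.assoc, hQ1.w, ← Category.assoc]
              exact (congrArg (· ≫ a) h3).trans (Category.id_comp a)) : Over.mk a ⟶ Over.mk p) := by
      intro y q hq
      have h5 : IsPullback (q ≫ pullback.fst p Y.hom) X.hom p (y ≫ Y.hom) := hq.sq.paste_horiz hXY
      have hy : y ≫ Y.hom = a := hau _ ⟨q ≫ pullback.fst p Y.hom, h5, by rw [Category.assoc]; exact hq.hr⟩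
      have h6 : q ≫ pullback.fst p Y.hom = Q := by
        have := hX₀.closed
        rw [← cancel_mono (liftP j p)]
        refine hom_ext_over ?_ ?_
        · rw [Category.assoc (q ≫ _), liftP_toZ, Category.assoc Q, liftP_toZ, hQ2, Category.assoc]
          exact hq.hr
        · rw [Category.assoc (q ≫ _), liftP_toBase, Category.assoc Q, liftP_toBase, hQ1.w, h5.w, hy]
      refine ⟨hy, h6, fun i => ?_⟩
      ext1
      change y ≫ (pr i).left = (s i).left ≫ Q
      rw [← hsY, ← h6, ← Category.assoc, ← hq.hs, Category.assoc]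
    intro y y' q q' hq hq'
    obtain ⟨hy, -, h1⟩ := key y q hq
    obtain ⟨hy', -, h1'⟩ := key y' q' hq'
    exact congrArg CommaMorphism.left ((hY (Over.mk a) _).unique h1 h1')

end K116.ChCart
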