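import Groth.Agent.AgPol.K116.ChCart
import Groth.Agent.AbDual.K732.BC
import Groth.Agent.AgPol.K814.AbBasic

/-!
# Group laws, torsion points and level structures under base change and isomorphism
-/

set_option autoImplicit false
universe u

open CategoryTheory Limits MonoidalCategory CartesianMonoidalCategory AlgebraicGeometry
open scoped MonObj

namespace K116.ChGrp

open K117.Ag K116.ChCart

section bc

variable {T T' : Scheme.{u}} (f : T' ⟶ T) {X : Over T} [GrpObj X]

omit [GrpObj X] in
theorem secBc_eq_up (s : 𝟙_ (Over T) ⟶ X) :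
    secBc f s = K732.BC.up (k := f) (U := 𝟙_ (Over T')) (toUnit (K732.BC.dn f (𝟙_ (Over T'))) ≫ s) := by
  apply K732.BC.hom_ext_bc
  rw [secBc_fst, K732.BC.up_left_fst, Over.comp_left]
  congr 1

theorem secBc_mul (s t : 𝟙_ (Over T) ⟶ X) : secBc f (s * t) = secBc f s * secBc f t := by
  rw [secBc_eq_up, secBc_eq_up, secBc_eq_up, MonObj.comp_mul, K732.BC.up_mul]

theorem secBc_one : secBc f (1 : 𝟙_ (Over T) ⟶ X) = 1 := by
  rw [secBc_eq_up, MonObj.comp_one, K732.BC.up_one]

/-- Base change of sections as a homomorphism. -/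
noncomputable def secBcHom : (𝟙_ (Over T) ⟶ X) →* (𝟙_ (Over T') ⟶ Red.bc f X) where
  toFun := secBc f
  map_one' := secBc_one f
  map_mul' := secBc_mul f

theorem tp_bc {g n : ℕ} (σ : Fin (2 * g) → (𝟙_ (Over T) ⟶ X)) (a : Fin (2 * g) → Fin n) :
    tp (Red.bc f X) (fun i => secBc f (σ i)) a = secBc f (tp X σ a) := by
  have h := map_list_prod (secBcHom (X := X) f) (List.ofFn fun i => σ i ^ (a i : ℕ))
  rw [List.map_ofFn] at h
  refine Eq.trans ?_ h.symm
  unfold tp
  congr 1
  congr 1
  funext i
  exact (map_pow (secBcHom (X := X) f) (σ i) (a i)).symm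

theorem one_unit (X : Over T) [GrpObj X] : (1 : 𝟙_ (Over T) ⟶ X) = η[X] := by
  rw [Hom.one_def]
  have : toUnit (𝟙_ (Over T)) = 𝟙 _ := toUnit_unique _ _
  rw [this, Category.id_comp]

theorem eta_bc : η[Red.bc f X] = secBc f η[X] := by
  rw [← one_unit, ← one_unit, secBc_one]

end bc

section iso

variable {T : Scheme.{u}} {X Y : Over T} [GrpObj X] [GrpObj Y]

/-- Composition with a homomorphism as a homomorphism. -/
noncomputable def compHom (Z : Over T) (e : X ⟶ Y) [IsMonHom e] : (Z ⟶ X) →* (Z ⟶ Y) where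
  toFun s := s ≫ e
  map_one' := MonObj.one_comp e
  map_mul' s t := MonObj.mul_comp s t e

theorem tp_comp {g n : ℕ} (e : X ⟶ Y) [IsMonHom e] (σ : Fin (2 * g) → (𝟙_ (Over T) ⟶ X))
    (a : Fin (2 * g) → Fin n) : tp X σ a ≫ e = tp Y (fun i => σ i ≫ e) a := by
  have h := map_list_prod (compHom (𝟙_ (Over T)) e) (List.ofFn fun i => σ i ^ (a i : ℕ))
  rw [List.map_ofFn] at h
  refine Eq.trans h ?_
  unfold tp
  congr 1
  congr 1
  funext i
  exact map_pow (compHom (𝟙_ (Over T)) e) (σ i) (a i)

theorem isMonHom_inv (e : X ≅ Y) [IsMonHom e.hom] : IsMonHom e.inv where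
  one_hom := by
    have := IsMonHom.one_hom e.hom
    rw [← this, Category.assoc, Iso.hom_inv_id, Category.comp_id]
  mul_hom := by
    have := IsMonHom.mul_hom e.hom
    rw [← cancel_mono e.hom, Category.assoc, Iso.inv_hom_id, Category.comp_id, Category.assoc, this,
      ← Category.assoc, tensorHom_comp_tensorHom, Iso.inv_hom_id, tensorHom_id, id_whiskerRight, Category.id_comp]

theorem isLevelStr_of_iso {g n : ℕ} (e : X ≅ Y) [IsMonHom e.hom] {σ : Fin (2 * g) → (𝟙_ (Over T) ⟶ X)}
    {τ : Fin (2 * g) → (𝟙_ (Over T) ⟶ Y)} (h : ∀ i, σ i ≫ e.hom = τ i) (hτ : AgPol.IsLevelStr Y g n τ) :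
    AgPol.IsLevelStr X g n σ := by
  have hinv := isMonHom_inv e
  refine ⟨fun i => ?_, fun Ω _ _ t => ?_⟩
  · have h1 : (compHom (𝟙_ (Over T)) e.hom) (σ i ^ n) = (compHom (𝟙_ (Over T)) e.hom) 1 := by
      rw [map_pow, map_one]
      exact (congrArg (· ^ n) (h i)).trans (hτ.1 i)
    exact (cancel_mono e.hom).1 h1
  · let Z : Over T := Over.mk t
    let E : (Z ⟶ X) ≃* (Z ⟶ Y) :=
      { compHom Z e.hom with
        invFun := compHom Z e.inv
        left_inv := fun s => by
          change (s ≫ e.hom) ≫ e.inv = s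
          rw [Category.assoc, Iso.hom_inv_id, Category.comp_id]
        right_inv := fun s => by
          change (s ≫ e.inv) ≫ e.hom = s
          rw [Category.assoc, Iso.inv_hom_id, Category.comp_id] }
    obtain ⟨h1, h2⟩ := hτ.2 Ω t
    have hE : ∀ s : Z ⟶ X, s ∈ AgPol.torsSet X n Z ↔ E s ∈ AgPol.torsSet Y n Z := by
      intro s
      change s ^ n = 1 ↔ (E s) ^ n = 1
      rw [← map_pow, map_eq_one_iff E E.injective]
    constructor
    · have h3 : (Subgroup.closure (Set.range fun i => toUnit Z ≫ τ i)) =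
          (Subgroup.closure (Set.range fun i => toUnit Z ≫ σ i)).map E.toMonoidHom := by
        rw [MonoidHom.map_closure, ← Set.range_comp]
        congr 2
        funext i
        change _ = (toUnit Z ≫ σ i) ≫ e.hom
        rw [Category.assoc, h]
      ext s
      rw [hE, ← h1, h3]
      constructor
      · intro hs
        exact ⟨s, hs, rfl⟩
      · rintro ⟨s', hs', hs''⟩
        have : s' = s := E.injective hs''
        exact this ▸ hs'
    · rw [← h2]
      exact Nat.card_congr (E.toEquiv.subtypeEquiv hE)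

end iso

section uniq

variable {T : Scheme.{u}} {X Y : Over T} [GrpObj X] [GrpObj Y]

/-- A morphism of abelian schemes compatible with the units is a homomorphism. -/
theorem isMonHom_of_unit {g g' : ℕ} (hX : AgPol.IsAbSch X g) (hY : AgPol.IsAbSch Y g') (e : X ⟶ Y)
    (he : η[X] ≫ e = η[Y]) : IsMonHom e := by
  have := hX.smooth
  have := hX.proper
  have := hX.geomConnected
  have := hY.proper
  have := Groth.Agent.Flat2B.SmoothGeom.geometricallyReduced_of_smooth X.hom
  exact K448.PointedHom.isMonHom_of_pointed e he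

theorem isCommMonObj {g : ℕ} (hX : AgPol.IsAbSch X g) : IsCommMonObj X := by
  have := hX.smooth
  have := hX.proper
  have := hX.geomConnected
  exact K814.AbBasic.isCommMonObj X

end uniq

end K116.ChGrp
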