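import Groth.Agent.AgPol.K117.Nodes
import Groth.Agent.CurvesB.VABaseChange
import Groth.Agent.CurvesC.DegIso
import Groth.Agent.FormalB.TwistGen

/-!
# Base change of the families parametrised by the Hilbert scheme
-/

set_option autoImplicit false
universe u

open CategoryTheory Limits AlgebraicGeometry

namespace K116.ChHilb

open K117.Ag K390.PnSec Groth.Agent.Dix.ProjProper

/-- The two components of a morphism to `P^m_T` are compatible with base change. -/
theorem isPullback_liftP {m : ℕ} {X T X' T' : Scheme.{u}} {f : X ⟶ T} (r : X ⟶ PZ.{u} m) {q : X' ⟶ X}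
    {f' : X' ⟶ T'} {a : T' ⟶ T} (sq : IsPullback q f' f a) :
    IsPullback q (liftP (q ≫ r) f') (liftP r f) (mapBase m a) := by
  refine IsPullback.of_bot ?_ ?_ (isPullback_mapBase m a)
  · rw [liftP_toBase, liftP_toBase]
    exact sq
  · refine hom_ext_over ?_ ?_
    · rw [Category.assoc, liftP_toZ, Category.assoc, mapBase_toZ, liftP_toZ]
    · rw [Category.assoc, liftP_toBase, Category.assoc, mapBase_toBase, ← Category.assoc, liftP_toBase, sq.w]

theorem isClosedImmersion_liftP {m : ℕ} {X T X' T' : Scheme.{u}} {f : X ⟶ T} {r : X ⟶ PZ.{u} m} {q : X' ⟶ X}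
    {f' : X' ⟶ T'} {a : T' ⟶ T} (sq : IsPullback q f' f a) (h : IsClosedImmersion (liftP r f)) :
    IsClosedImmersion (liftP (q ≫ r) f') :=
  MorphismProperty.of_isPullback (isPullback_liftP r sq) h

theorem isProper_of_closed {m : ℕ} {X T : Scheme.{u}} {f : X ⟶ T} {r : X ⟶ PZ.{u} m}
    (h : IsClosedImmersion (liftP r f)) : IsProper f := by
  rw [← liftP_toBase r f]
  infer_instance

theorem hilbGood_bc {m : ℕ} {Φ : Polynomial ℚ} {X T X' T' : Scheme.{u}} {f : X ⟶ T} {r : X ⟶ PZ.{u} m}
    {q : X' ⟶ X} {f' : X' ⟶ T'} {a : T' ⟶ T} (sq : IsPullback q f' f a) (h : Node.HilbGood m Φ f r) :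
    Node.HilbGood m Φ f' (q ≫ r) where
  closed := isClosedImmersion_liftP sq h.closed
  flat := MorphismProperty.of_isPullback sq h.flat
  fib Ω _ _ t := by
    have hp := isProper_of_closed h.closed
    have h0 := h.fib Ω (t ≫ a)
    let i1 : (pullback f (t ≫ a)).Over (Spec (CommRingCat.of Ω)) := ⟨pullback.snd f (t ≫ a)⟩
    let i2 : (pullback f' t).Over (Spec (CommRingCat.of Ω)) := ⟨pullback.snd f' t⟩
    have hp1 : IsProper (pullback f (t ≫ a) ↘ Spec (CommRingCat.of Ω)) :=
      inferInstanceAs (IsProper (pullback.snd f (t ≫ a)))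
    let w : pullback f' t ⟶ pullback f (t ≫ a) :=
      pullback.lift (pullback.fst f' t ≫ q) (pullback.snd f' t) (by
        rw [Category.assoc, sq.w, ← Category.assoc, pullback.condition, Category.assoc])
    have hw1 : w ≫ pullback.fst f (t ≫ a) = pullback.fst f' t ≫ q := pullback.lift_fst _ _ _
    have hw2 : w ≫ pullback.snd f (t ≫ a) = pullback.snd f' t := pullback.lift_snd _ _ _
    have hb : IsPullback (pullback.fst f' t ≫ q) (pullback.snd f' t) f (t ≫ a) :=
      (IsPullback.of_hasPullback f' t).paste_horiz sq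
    have hwi : IsIso w := by
      have h3 := hb.isoPullback_hom_fst
      have h4 := hb.isoPullback_hom_snd
      have h5 : w = hb.isoPullback.hom := by
        apply pullback.hom_ext
        · rw [hw1, h3]
        · rw [hw2, h4]
      rw [h5]
      infer_instance
    have hpb : IsPullback w (pullback f' t ↘ Spec (CommRingCat.of Ω)) (pullback f (t ≫ a) ↘ Spec (CommRingCat.of Ω))
        (Spec.map (CommRingCat.ofHom (algebraMap Ω Ω))) := by
      have h6 : Spec.map (CommRingCat.ofHom (algebraMap Ω Ω)) = 𝟙 _ := Spec.map_id _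
      rw [h6]
      exact IsPullback.of_horiz_isIso ⟨by
        rw [Category.comp_id]
        exact hw2⟩
    filter_upwards [h0] with k hk
    rw [← hk]
    congr 1
    have h7 := Groth.Agent.CurvesB.VABaseChange.finrank_eq hpb
      ((Scheme.Modules.pullback (pullback.fst f (t ≫ a) ≫ r)).obj (Twist.twistProjSpace m (ULift.{u} ℤ) k)) ?_ 0
    · refine Eq.trans ?_ h7
      refine Groth.Agent.CurvesC.DegIso.finrank_congr Ω ?_ 0
      refine (Scheme.Modules.pullbackCongr ?_).app _ ≪≫ ((Scheme.Modules.pullbackComp w _).symm.app _)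
      rw [← Category.assoc, ← Category.assoc, hw1]
    · exact Groth.Agent.Ega2.QCohLocal.isQCoh_of_isInvertible (Groth.Agent.Fdesc.LocGen.isInvertible_pullback _
        (Groth.Agent.FormalB.TwistGen.isInvertible_twistProjSpace m (ULift.{u} ℤ) k))

end K116.ChHilb
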