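import Groth.Agent.AgPol.K533.FamCore
import Groth.Agent.AbDual.K732.PullLam
import Groth.Agent.Flat2B.SmoothGeom

/-!
# Transport of duals and polarisation classes along an isomorphism

* `tr e φ` : the dual data transported along `e : A' ≅ A`; `isDualAV_tr`, `isTranspose_tr`.
* `isPolCl_of_iso`.
-/

set_option autoImplicit false
set_option linter.unusedSectionVars false
universe u

open CategoryTheory Limits MonoidalCategory CartesianMonoidalCategory AlgebraicGeometry
open scoped MonObj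

namespace K116.ChIso

open Groth.Agent Groth.Agent.Grpsch.PicGrp Groth.Agent.Fga.RigGrp K732.PicZero K732.Prim K732.Dual K732.BC
open K732.CubeSec K732.Transp K117.Ag

section tr

variable {S : Scheme.{u}} {A A' At : Over S} (e : A' ≅ A)

/-- Transport of dual data. -/
noncomputable def tr (φ : AgPol.DualMap A At) : AgPol.DualMap A' At := fun T c =>
  φ T (PicF.pullCl (AbDual.bcMap e.inv T) c)

lemma bcMap_comp {B C D : Over S} (f : B ⟶ C) (g : C ⟶ D) (T : Over S) :
    AbDual.bcMap f T ≫ AbDual.bcMap g T = AbDual.bcMap (f ≫ g) T := by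
  apply pullback.hom_ext
  · rw [Category.assoc]
    refine (congrArg (_ ≫ ·) (bcMap_fst g T)).trans ?_
    refine Eq.trans ?_ (bcMap_fst (f ≫ g) T).symm
    rw [← Category.assoc]
    refine (congrArg (· ≫ _) (bcMap_fst f T)).trans ?_
    rw [Category.assoc]
    rfl
  · rw [Category.assoc]
    refine (congrArg (_ ≫ ·) (bcMap_XTproj g T)).trans ?_
    exact (bcMap_XTproj f T).trans (bcMap_XTproj (f ≫ g) T).symm

lemma bcMap_id (B T : Over S) : AbDual.bcMap (𝟙 B) T = 𝟙 _ := by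
  apply pullback.hom_ext
  · refine (bcMap_fst (𝟙 B) T).trans ?_
    rw [Category.id_comp]
    exact Category.comp_id _
  · refine (bcMap_XTproj (𝟙 B) T).trans ?_
    exact (Category.id_comp _).symm

variable {T T' : Over S}

lemma pull_inv_hom (d : Pic (PicF.XT A.hom T)) :
    pull (AbDual.bcMap e.inv T) (pull (AbDual.bcMap e.hom T) d) = d := by
  rw [← pull_comp, bcMap_comp, Iso.inv_hom_id, bcMap_id, pull_id]

lemma pull_hom_inv (d : Pic (PicF.XT A'.hom T)) :
    pull (AbDual.bcMap e.hom T) (pull (AbDual.bcMap e.inv T) d) = d := by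
  rw [← pull_comp, bcMap_comp, Iso.hom_inv_id, bcMap_id, pull_id]

lemma exists_E (c : Pic (PicF.XT A'.hom T)) : ∃ d, pull (AbDual.bcMap e.hom T) d = c := ⟨_, pull_hom_inv e c⟩

lemma mem_pz_E {d : Pic (PicF.XT A.hom T)} : pull (AbDual.bcMap e.hom T) d ∈ pz A'.hom T ↔ d ∈ pz A.hom T := by
  constructor
  · intro h
    have h1 := pull_bcMap_mem e.inv h
    rwa [pull_inv_hom] at h1
  · exact fun h => pull_bcMap_mem e.hom h

lemma pull_XTmap_E (g : T' ⟶ T) (d : Pic (PicF.XT A.hom T)) :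
    pull (PicF.XTmap A'.hom g) (pull (AbDual.bcMap e.hom T) d) =
      pull (AbDual.bcMap e.hom T') (pull (PicF.XTmap A.hom g) d) := by
  refine ext_ev fun W a h ↦ ?_
  rw [ev_XTmap, ev_bcMap, ev_bcMap, ev_XTmap]

variable {φ : AgPol.DualMap A At}

lemma tr_E (d : Pic (PicF.XT A.hom T)) : tr e φ T (toCl (pull (AbDual.bcMap e.hom T) d)) = cm φ d := by
  rw [tr, ← toCl_pull, pull_inv_hom]
  rfl

variable [GrpObj At]

/-- Transport of a dual. -/
theorem isDualAV_tr (hD : AbDual.IsDualAV Scheme.fppfPrecoverage A At φ) :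
    AbDual.IsDualAV Scheme.fppfPrecoverage A' At (tr e φ) := by
  refine ⟨⟨?_, ?_, ?_⟩, ?_⟩
  · intro T T' g c hc
    obtain ⟨d, hd, rfl⟩ := exists_pz hc
    obtain ⟨d, rfl⟩ := exists_E e d
    rw [mem_pz_E] at hd
    rw [← toCl_pull, pull_XTmap_E, tr_E, tr_E, cm_pull hD _ hd]
  · intro T h
    obtain ⟨R, hR, h1⟩ := hD.relPic.locallySurjective T h
    refine ⟨R, hR, fun U u hu ↦ ?_⟩
    obtain ⟨c, hc, hcu⟩ := h1 u hu
    obtain ⟨d, hd, rfl⟩ := exists_pz hc
    exact ⟨toCl (pull (AbDual.bcMap e.hom _) d), isPicZeroCl_iff.2 ((mem_pz_E e).2 hd), (tr_E e d).trans hcu⟩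
  · intro T c c' hc hc' h
    obtain ⟨d, hd, rfl⟩ := exists_pz hc
    obtain ⟨d', hd', rfl⟩ := exists_pz hc'
    obtain ⟨d, rfl⟩ := exists_E e d
    obtain ⟨d', rfl⟩ := exists_E e d'
    rw [mem_pz_E] at hd hd'
    rw [tr_E, tr_E] at h
    obtain ⟨R, hR, h1⟩ := hD.relPic.locallyInjective T _ _ (isPicZeroCl_iff.2 hd) (isPicZeroCl_iff.2 hd') h
    refine ⟨R, hR, fun U u hu ↦ ?_⟩
    have h2 := h1 u hu
    rw [← toCl_pull, ← toCl_pull] at h2 ⊢
    have h3 := toCl_injective h2
    rw [pull_XTmap_E, pull_XTmap_E, h3]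
  · intro T L M hL hM
    have iL : PicF.IsInvertible L := Groth.Agent.Picfga.LineDescent.isInvertibleCl_cl_iff.1
      (isInvertibleCl_of_isPicZeroCl hL)
    have iM : PicF.IsInvertible M := Groth.Agent.Picfga.LineDescent.isInvertibleCl_cl_iff.1
      (isInvertibleCl_of_isPicZeroCl hM)
    obtain ⟨d, hd⟩ := exists_E e (mk L iL)
    obtain ⟨d', hd'⟩ := exists_E e (mk M iM)
    have hL' : d ∈ pz A.hom T := by
      rw [← mem_pz_E e, hd]
      exact isPicZeroCl_iff.1 hL
    have hM' : d' ∈ pz A.hom T := by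
      rw [← mem_pz_E e, hd']
      exact isPicZeroCl_iff.1 hM
    have e1 : PicF.cl (CohB1.tensorMod L M) = toCl (pull (AbDual.bcMap e.hom T) (d * d')) := by
      rw [map_mul, hd, hd', mk_mul_mk]
      rfl
    have e2 : PicF.cl L = toCl (pull (AbDual.bcMap e.hom T) d) := by
      rw [hd]
      rfl
    have e3 : PicF.cl M = toCl (pull (AbDual.bcMap e.hom T) d') := by
      rw [hd']
      rfl
    rw [e1, e2, e3, tr_E, tr_E, tr_E, cm_mul hD hL' hM']

omit [GrpObj At] in
theorem isTranspose_tr : AbDual.IsTranspose e.hom (tr e φ) φ (𝟙 At) := by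
  intro T c hc
  obtain ⟨d, hd, rfl⟩ := exists_pz hc
  rw [← toCl_pull, tr_E, Category.comp_id]
  rfl

end tr

theorem hasDegSq_of_iso {S : Scheme.{u}} {A A' B : Over S} (e : A' ≅ A) {lam : A ⟶ B} {d : ℕ}
    (h : AgPol.HasDegSq lam d) : AgPol.HasDegSq (e.hom ≫ lam) d := by
  obtain ⟨h1, h2, h3, h4⟩ := h
  have hp : IsPullback e.hom.left (e.hom ≫ lam).left lam.left (𝟙 B.left) :=
    IsPullback.of_horiz_isIso ⟨by rw [Category.comp_id]; rfl⟩
  refine ⟨MorphismProperty.of_isPullback hp h1, MorphismProperty.of_isPullback hp h2,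
    MorphismProperty.of_isPullback hp h3, fun y => ?_⟩
  rw [Scheme.Hom.finrank_of_isPullback _ _ _ _ hp]
  exact h4 _

/-- **Polarisation classes are invariant under isomorphisms.** -/
theorem isPolCl_of_iso {S : Scheme.{u}} {A A' : Over S} [GrpObj A] [GrpObj A'] {g : ℕ} (hA : AgPol.IsAbSch A g)
    (e : A' ≅ A) [IsMonHom e.hom] {d : ℕ} {c : Pic A.left} (h : IsPolCl A d c) : IsPolCl A' d (pull e.hom.left c) := by
  have := hA.smooth
  have := hA.proper
  have := hA.geomConnected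
  have hint : GeometricallyIntegral A.hom := K814.AbBasic.geometricallyIntegral A
  obtain ⟨At, gAt, cAt, φ, ξ, lam, hD, h1, h2, h3, hpol, hdeg, hcl⟩ := h
  refine ⟨At, gAt, cAt, tr e φ, pull (AbDual.bcMap e.hom At) ξ, e.hom ≫ lam, isDualAV_tr e hD, (mem_pz_E e).2 h1, ?_,
    (tr_E e ξ).trans h3, ?_, hasDegSq_of_iso e hdeg, ?_⟩
  · rw [mem_rg_iff, ev_bcMap, MonObj.one_comp]
    exact ev_one_of_mem h2 _
  · have hp := K732.PullLam.isPolarization_pull hD (isDualAV_tr e hD) e.hom (isTranspose_tr e) hpol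
    rwa [Category.comp_id] at hp
  · rw [hcl, pull_ev, ev_bcMap, Category.comp_id, Category.id_comp]

end K116.ChIso
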