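import Groth.Agent.AgPol.K117.Defs
import Groth.Agent.AgPol.K116.ChPow
import Mathlib.AlgebraicGeometry.Morphisms.Separated

/-!
# Standard points of projective space

* `isPt_comp` : points given by coordinates are stable under base change.
* `exists_std` : `IsStd k r` iff `r` is the constant point `T ⟶ Spec ℤ ⟶ P^m`.
* `repr_std` : `IsStd k (f ≫ h)` is a closed condition on `f`.
-/

set_option autoImplicit false
universe u

open CategoryTheory Limits AlgebraicGeometry

namespace K116.ChStd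

open K117.Ag K390.PnSec Groth.Agent.Fdesc.LocGen

theorem isPt_comp {T T' : Scheme.{u}} {m : ℕ} {r : T ⟶ PZ.{u} m} {v : Fin (m + 1) → Γ(T, ⊤)} (h : IsPt r v)
    (g : T' ⟶ T) : IsPt (g ≫ r) (fun i => g.appTop (v i)) := by
  have h1 := GivenBy.comp h g
  have hg : IsGen (pullTop g (one (X := T) ⊤)) := (isGen_one ⊤).pullSec g
  have hi : IsIso (homOf (pullTop g (one (X := T) ⊤))) := by
    rw [isIso_iff_isGen, sec_homOf, res_refl]
    exact hg
  have h2 := h1.of_iso (asIso (homOf (pullTop g (one (X := T) ⊤)))).symm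
  have key : ∀ a : Γ(T, ⊤), (asIso (homOf (pullTop g (one (X := T) ⊤)))).symm.hom.app ⊤
      (pullTop g (ofFun a)) = ofFun (X := T') (g.appTop a) := by
    intro a
    have e1 : pullTop g (ofFun a) = (homOf (pullTop g (one (X := T) ⊤))).app ⊤ (ofFun (X := T') (g.appTop a)) := by
      rw [homOf_app, res_refl, ofFun_eq_smul]
      exact pullSec_smul g a (one ⊤)
    rw [e1]
    have e2 := (asIso (homOf (pullTop g (one (X := T) ⊤)))).hom_inv_id
    exact congr(($(e2).app ⊤) (ofFun (X := T') (g.appTop a)))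
  have h3 : (fun i => (asIso (homOf (pullTop g (one (X := T) ⊤)))).symm.hom.app ⊤
      (pullTop g (v i : Γ(Coh.structureModule T, ⊤)))) =
      fun i => ((g.appTop (v i) : Γ(T', ⊤)) : Γ(Coh.structureModule T', ⊤)) := funext fun i => key (v i)
  rw [h3] at h2
  exact h2

theorem stdv_map {R R' : Type*} [CommRing R] [CommRing R'] (φ : R →+* R') (m : ℕ) (k : Fin (m + 2))
    (i : Fin (m + 1)) : φ (stdv R m k i) = stdv R' m k i := by
  unfold stdv
  split_ifs with h
  · by_cases hi : i = ⟨k, h⟩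
    · subst hi
      simp
    · rw [Pi.single_eq_of_ne hi, Pi.single_eq_of_ne hi, map_zero]
  · exact map_one φ

theorem isStd_comp {T T' : Scheme.{u}} {m : ℕ} {k : Fin (m + 2)} {r : T ⟶ PZ.{u} m} (h : IsStd k r)
    (g : T' ⟶ T) : IsStd k (g ≫ r) := by
  have h1 := isPt_comp h g
  have h2 : (fun i => g.appTop (stdv Γ(T, ⊤) m k i)) = stdv Γ(T', ⊤) m k := funext fun i =>
    stdv_map g.appTop.hom m k i
  rw [h2] at h1
  exact h1

theorem isStd_unique {T : Scheme.{u}} {m : ℕ} {k : Fin (m + 2)} {r r' : T ⟶ PZ.{u} m} (h : IsStd k r)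
    (h' : IsStd k r') : r = r' := GivenBy.unique' h h'

/-- The standard points over `ℤ`. -/
theorem exists_std (m : ℕ) (k : Fin (m + 2)) : ∃ r : SZ.{u} ⟶ PZ.{u} m, IsStd k r := by
  refine exists_givenBy' _ ?_
  obtain ⟨i, hi⟩ : ∃ i, stdv Γ(SZ.{u}, ⊤) m k i = 1 := by
    unfold stdv
    by_cases h : (k : ℕ) < m + 1
    · exact ⟨⟨k, h⟩, by rw [dif_pos h, Pi.single_eq_same]⟩
    · exact ⟨0, by rw [dif_neg h]⟩
  rw [eq_top_iff]
  refine le_trans ?_ (le_iSup _ i)
  rw [le_genLocus_iff, sec_homOf, res_refl, hi]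
  exact isGen_one ⊤

/-- `IsStd k r` iff `r` is the constant point. -/
theorem exists_std_iff (m : ℕ) (k : Fin (m + 2)) : ∃ r₀ : SZ.{u} ⟶ PZ.{u} m, ∀ (T : Scheme.{u}) (r : T ⟶ PZ.{u} m),
    IsStd k r ↔ r = specULiftZIsTerminal.from T ≫ r₀ := by
  obtain ⟨r₀, h⟩ := exists_std.{u} m k
  refine ⟨r₀, fun T r => ⟨fun h' => isStd_unique h' (isStd_comp h _), ?_⟩⟩
  rintro rfl
  exact isStd_comp h _

/-- The frame condition is closed. -/
theorem repr_std {U : Scheme.{u}} {m : ℕ} (k : Fin (m + 2)) (h : U ⟶ PZ.{u} m) :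
    K116.ChPow.Repr @IsClosedImmersion (fun (T' : Scheme.{u}) (f : T' ⟶ U) => IsStd k (f ≫ h)) := by
  obtain ⟨r₀, hr₀⟩ := exists_std_iff.{u} m k
  let p : PZ.{u} m ⟶ SZ.{u} := CohB1.ProjSpace.toSpec m (ULift.{u} ℤ)
  have hp : IsSeparated p := inferInstanceAs (IsSeparated (CohB1.ProjSpace.toSpec m (ULift.{u} ℤ)))
  let h' : U ⟶ PZ.{u} m := specULiftZIsTerminal.from U ≫ r₀
  have hhp : h ≫ p = h' ≫ p := specULiftZIsTerminal.hom_ext _ _
  refine ⟨pullback (pullback.lift h h' hhp) (pullback.diagonal p), pullback.fst _ _, ?_, ?_⟩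
  · have : IsClosedImmersion (pullback.diagonal p) := hp.isClosedImmersion_diagonal
    infer_instance
  · intro T' _ f
    change IsStd k (f ≫ h) ↔ _
    rw [hr₀]
    have e : specULiftZIsTerminal.from T' ≫ r₀ = f ≫ h' := by
      change _ = f ≫ specULiftZIsTerminal.from U ≫ r₀
      rw [← Category.assoc]
      congr 1
      exact specULiftZIsTerminal.hom_ext _ _
    rw [e]
    constructor
    · intro hf
      refine ⟨pullback.lift f (f ≫ h) ?_, pullback.lift_fst _ _ _⟩
      apply pullback.hom_ext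
      · rw [Category.assoc, pullback.lift_fst, Category.assoc, pullback.diagonal_fst, Category.comp_id]
      · rw [Category.assoc, pullback.lift_snd, Category.assoc, pullback.diagonal_snd, Category.comp_id, hf]
    · rintro ⟨w, rfl⟩
      have h1 := pullback.condition (f := pullback.lift h h' hhp) (g := pullback.diagonal p)
      have h2 := congr(w ≫ $h1 ≫ pullback.fst p p)
      have h3 := congr(w ≫ $h1 ≫ pullback.snd p p)
      simp only [Category.assoc, pullback.lift_fst, pullback.lift_snd, pullback.diagonal_fst,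
        pullback.diagonal_snd, Category.comp_id] at h2 h3
      rw [Category.assoc, Category.assoc, h2, h3]

end K116.ChStd
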