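import Groth.Agent.AgPol.K116.ChAb
import Groth.Agent.AgPol.K116.ChStd
import Groth.Agent.AgPol.K116.ChPol
import Groth.Agent.AgPol.K116.ChIso

/-!
# The moduli scheme of framed core families

`main` : `Node.Chart g d n m` from the nodes HILB, ABLOC, LEVLOC, POLLOC, POLUNIQ, CLOSED, UNIQ, NBC and two further
inputs `HilbNorm`, `RankHilb`.
-/

set_option autoImplicit false
universe u

open CategoryTheory Limits MonoidalCategory CartesianMonoidalCategory AlgebraicGeometry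
open scoped MonObj

namespace K116.ChMain

open Groth.Agent.Grpsch.PicGrp K117.Ag K390.PnSec K116.ChHilb K116.ChCart K116.ChGrp K116.ChAb K116.ChStd K116.ChPow

/-- The Hilbert polynomial. -/
noncomputable abbrev Phi (g m : ℕ) : Polynomial ℚ := Polynomial.C ((m : ℚ) + 1) * Polynomial.X ^ g

/-- The Hilbert polynomial of a normalised embedding. -/
def HilbNorm (g d n m : ℕ) : Prop :=
  ∀ {S : Scheme.{u}} (T : Over S) (x : Core T g), LN S T → Core.ok g d n T x →
    ∀ (I : Fin (m + 2) → (Fin (2 * g) → Fin n)) (r : x.X.left ⟶ PZ.{u} m), NormEmb x.X x.c x.σ I r →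
      IsClosedImmersion (liftP r x.X.hom) → Node.HilbGood m (Phi g m) x.X.hom r

/-- The direct image of `O(1)` on an abelian scheme with the given Hilbert polynomial. -/
def RankHilb (g m : ℕ) : Prop :=
  ∀ {U : Scheme.{u}} [IsLocallyNoetherian U] (A : Over U) [GrpObj A], AgPol.IsAbSch A g →
    ∀ (r : A.left ⟶ PZ.{u} m), Node.HilbGood m (Phi g m) A.hom r →
      ∀ (L : A.left.Modules) (hL : PicF.IsInvertible L) (N : Pic U),
        mk L hL = pull r (o1 m) * pull A.hom N →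
          RelAmple.IsRelAmple A.hom L ∧ FlatMod.IsFinLocFreeOfRank (m + 1) ((Coh.push A.hom).obj L)

/-- Locally of finite type, quasi-compact monomorphisms. -/
abbrev W : MorphismProperty Scheme.{u} := (MorphismProperty.monomorphisms Scheme.{u} ⊓ @LocallyOfFiniteType) ⊓ @QuasiCompact

theorem w_of_closed {X Y : Scheme.{u}} (f : X ⟶ Y) (h : IsClosedImmersion f) : W.{u} f :=
  ⟨⟨inferInstanceAs (Mono f), inferInstance⟩, inferInstance⟩

theorem repr_mono {P Q : MorphismProperty Scheme.{u}} (hPQ : ∀ {X Y : Scheme.{u}} (f : X ⟶ Y), P f → Q f)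
    {U : Scheme.{u}} {R : ∀ T' : Scheme.{u}, (T' ⟶ U) → Prop} (h : Repr P R) : Repr Q R := by
  obtain ⟨Z, z, hz, hZ⟩ := h
  exact ⟨Z, z, hPQ z hz, hZ⟩

section cls

variable {T U : Scheme.{u}} {X : Over T} {A : Over U}

/-- A class is determined by rigidification. -/
theorem cls_eq {u : T ⟶ U} {q : X.left ⟶ A.left} {e : 𝟙_ (Over T) ⟶ X}
    {e' : 𝟙_ (Over U) ⟶ A} (he : e.left ≫ q = u ≫ e'.left) {c : Pic X.left} {ℓ : Pic A.left} {N : Pic T}
    (h : c = pull q ℓ * pull X.hom N) (hc : pull e.left c = 1) (hℓ : pull e'.left ℓ = 1) : c = pull q ℓ := by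
  have h1 : e.left ≫ X.hom = 𝟙 T := Over.w e
  have h2 : N = 1 := by
    have h3 := congrArg (pull e.left) h
    rw [hc, map_mul] at h3
    have h4 : pull e.left (pull q ℓ) = 1 := by
      refine (pull_comp _ _ _).symm.trans ?_
      refine (congrArg (fun f => pull f ℓ) he).trans ?_
      refine (pull_comp _ _ _).trans ?_
      rw [hℓ, map_one]
    have h5 : pull e.left (pull X.hom N) = N := by
      refine (pull_comp _ _ _).symm.trans ?_
      refine (congrArg (fun f => pull f N) h1).trans ?_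
      exact pull_id _
    rw [h4, h5, _root_.one_mul] at h3
    exact h3.symm
  rw [h, h2, map_one, _root_.mul_one]

end cls

section univ

variable {U : Scheme.{u}} {A : Over U} [GrpObj A] {g m n d : ℕ} {rU : A.left ⟶ PZ.{u} m}
  {sU : Fin (2 * g) → (𝟙_ (Over U) ⟶ A)} (hA : AgPol.IsAbSch A g)

/-- Cartesian morphisms compatible with the units. -/
abbrev CartU {T : Scheme.{u}} {X : Over T} [GrpObj X] (s : Fin (2 * g) → (𝟙_ (Over T) ⟶ X))
    (sU : Fin (2 * g) → (𝟙_ (Over U) ⟶ A)) (r : X.left ⟶ PZ.{u} m) (rU : A.left ⟶ PZ.{u} m) (f : T ⟶ U)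
    (q : X.left ⟶ A.left) : Prop :=
  Cart (Fin.cons η[X] s : Fin (2 * g + 1) → (𝟙_ (Over T) ⟶ X)) (Fin.cons η[A] sU : Fin (2 * g + 1) → (𝟙_ (Over U) ⟶ A))
    r rU f q

omit [GrpObj A] in
theorem secBc_cons {T : Scheme.{u}} (f : T ⟶ U) [GrpObj A] (sU : Fin (2 * g) → (𝟙_ (Over U) ⟶ A)) :
    (fun i => secBc f ((Fin.cons η[A] sU : Fin (2 * g + 1) → (𝟙_ (Over U) ⟶ A)) i)) =
      (Fin.cons η[Red.bc f A] (fun i => secBc f (sU i)) : Fin (2 * g + 1) → (𝟙_ (Over T) ⟶ Red.bc f A)) := by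
  funext i
  refine Fin.cases ?_ (fun i => ?_) i
  · exact (eta_bc f).symm
  · rfl

theorem cartU_bc {T : Scheme.{u}} (f : T ⟶ U) (sU : Fin (2 * g) → (𝟙_ (Over U) ⟶ A)) (rU : A.left ⟶ PZ.{u} m) :
    CartU (X := Red.bc f A) (fun i => secBc f (sU i)) sU (pullback.fst A.hom f ≫ rU) rU f (pullback.fst A.hom f) := by
  have h := Cart.bc f (Fin.cons η[A] sU : Fin (2 * g + 1) → (𝟙_ (Over U) ⟶ A)) rU
  rw [secBc_cons] at h
  exact h

variable {T : Scheme.{u}} {X : Over T} [GrpObj X] {s : Fin (2 * g) → (𝟙_ (Over T) ⟶ X)} {r : X.left ⟶ PZ.{u} m}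
  {f : T ⟶ U} {q : X.left ⟶ A.left}

include hA in
theorem isMonHom_cmp (h : CartU s sU r rU f q) (hX : AgPol.IsAbSch X g) : IsMonHom (cmp h.sq).hom :=
  isMonHom_of_unit hX (isAbSch_bc f hA) _ (by
    rw [eta_bc]
    exact comp_cmp h.sq (h.hs 0))

theorem comp_cmp' (h : CartU s sU r rU f q) (i : Fin (2 * g)) : s i ≫ (cmp h.sq).hom = secBc f (sU i) :=
  comp_cmp h.sq (h.hs i.succ)

include hA in
theorem tp_cart (h : CartU s sU r rU f q) (hX : AgPol.IsAbSch X g) (a : Fin (2 * g) → Fin n) :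
    (tp X s a).left ≫ q = f ≫ (tp A sU a).left := by
  have := isMonHom_cmp hA h hX
  have h1 := tp_comp (cmp h.sq).hom s a
  have h2 : (fun i => s i ≫ (cmp h.sq).hom) = fun i => secBc f (sU i) := funext fun i => comp_cmp' h i
  rw [h2, tp_bc] at h1
  have h3 := congrArg CommaMorphism.left h1
  have h4 := congrArg (· ≫ pullback.fst A.hom f) h3
  refine Eq.trans ?_ (h4.trans (secBc_fst f _))
  change _ = ((tp X s a).left ≫ (cmp h.sq).hom.left) ≫ pullback.fst A.hom f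
  rw [Category.assoc, cmp_fst]

/-- The conditions cutting out the moduli scheme. -/
def Cond (d n : ℕ) (I : Fin (m + 2) → (Fin (2 * g) → Fin n)) (A : Over U) [GrpObj A] (rU : A.left ⟶ PZ.{u} m)
    (sU : Fin (2 * g) → (𝟙_ (Over U) ⟶ A)) (ℓ : Pic A.left) (T : Scheme.{u}) (f : T ⟶ U) : Prop :=
  (AgPol.IsLevelStr (Red.bc f A) g n (fun i => secBc f (sU i)) ∧
    ∃ c : Pic (Red.bc f A).left, pull (η[Red.bc f A] : 𝟙_ (Over T) ⟶ Red.bc f A).left c = 1 ∧
      IsPolCl (Red.bc f A) d c ∧ c ^ 3 = pull (pullback.fst A.hom f) ℓ) ∧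
  ∀ k, IsStd k (f ≫ (tp A sU (I k)).left ≫ rU)

include hA in
/-- The conditions are representable. -/
theorem repr_cond (hg : 1 ≤ g) (hd : 1 ≤ d) (hn : 1 ≤ n) (hm : m + 1 = 6 ^ g * d) [IsNoetherian U]
    (hLev : Node.LevLocus.{u}) (hPol : Node.PolLocus.{u}) (h3 : RankHilb.{u} g m)
    (I : Fin (m + 2) → (Fin (2 * g) → Fin n)) (hU : Node.HilbGood m (Phi g m) A.hom rU) {N : Pic U}
    (hℓ : pull (η[A] : 𝟙_ (Over U) ⟶ A).left (pull rU (o1 m) * pull A.hom N) = 1) :
    Repr W.{u} (Cond d n I A rU sU (pull rU (o1 m) * pull A.hom N)) := by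
  have hcomm : IsCommMonObj A := isCommMonObj hA
  obtain ⟨L, hL, hLℓ⟩ := exists_mk (pull rU (o1 m) * pull A.hom N)
  obtain ⟨hamp, hrank⟩ := h3 A hA rU hU L hL N hLℓ.symm
  obtain ⟨Z₁, z₁, hz₁, hz₁', hZ₁⟩ := hLev U A g n hg hn hA sU
  obtain ⟨Z₂, z₂, hz₂, hZ₂⟩ := hPol U A g d hg hd hA L hL hamp (hm ▸ hrank) (hLℓ ▸ hℓ)
  rw [hLℓ]
  refine Repr.and (Repr.and ⟨Z₁, z₁, ⟨⟨inferInstanceAs (Mono z₁), inferInstance⟩, hz₁'⟩, fun T' _ f => hZ₁ T' f⟩
    ⟨Z₂, z₂, w_of_closed _ hz₂, fun T' _ f => hZ₂ T' f⟩) ?_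
  refine Repr.forall _ fun k => ?_
  exact repr_mono (fun f hf => w_of_closed f hf) (repr_std k ((tp A sU (I k)).left ≫ rU))

/-- The Picard class of a normalised embedding, read on the universal object. -/
theorem cube_eq {N : Pic U} (hℓ : pull (η[A] : 𝟙_ (Over U) ⟶ A).left (pull rU (o1 m) * pull A.hom N) = 1)
    (h : CartU s sU r rU f q) {c : Pic X.left} (hc : pull (η[X] : 𝟙_ (Over T) ⟶ X).left c = 1)
    (hcls : ∃ N' : Pic T, pull r (o1 m) = c ^ 3 * pull X.hom N') :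
    c ^ 3 = pull q (pull rU (o1 m) * pull A.hom N) := by
  obtain ⟨N', hN'⟩ := hcls
  have h1 : pull r (o1 m) = pull q (pull rU (o1 m)) := by
    rw [← pull_comp, h.hr]
  have h2 : pull q (pull A.hom N) = pull X.hom (pull f N) := by
    rw [← pull_comp, h.sq.w, pull_comp]
  refine cls_eq (u := f) (N := (pull f N)⁻¹ * N'⁻¹) (h.hs 0) ?_ ?_ hℓ
  · rw [map_mul, map_mul, map_inv, map_inv, h2, ← h1, hN']
    group
  · have h3 : pull (η[X] : 𝟙_ (Over T) ⟶ X).left (c ^ 3) = 1 := by rw [map_pow, hc, one_pow]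
    exact h3

include hA in
/-- The conditions hold for framed core families. -/
theorem cond_of_cart {N : Pic U}
    (hℓ : pull (η[A] : 𝟙_ (Over U) ⟶ A).left (pull rU (o1 m) * pull A.hom N) = 1)
    (h : CartU s sU r rU f q) (hX : AgPol.IsAbSch X g) {c : Pic X.left}
    (hc : pull (η[X] : 𝟙_ (Over T) ⟶ X).left c = 1) (hpol : IsPolCl X d c) (hlev : AgPol.IsLevelStr X g n s)
    {I : Fin (m + 2) → (Fin (2 * g) → Fin n)} (hr : NormEmb X c s I r) :
    Cond d n I A rU sU (pull rU (o1 m) * pull A.hom N) T f := by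
  have hm := isMonHom_cmp hA h hX
  have hmi : IsMonHom (cmp h.sq).symm.hom := isMonHom_inv (cmp h.sq)
  refine ⟨⟨?_, ?_⟩, ?_⟩
  · refine isLevelStr_of_iso (e := (cmp h.sq).symm) (τ := s) (fun i => ?_) hlev
    have h1 := comp_cmp' h i
    rw [← h1, Iso.symm_hom, Category.assoc, Iso.hom_inv_id, Category.comp_id]
  · refine ⟨pull (cmp h.sq).inv.left c, ?_, K116.ChIso.isPolCl_of_iso hX (cmp h.sq).symm hpol, ?_⟩
    · rw [← pull_comp]
      have h1 := IsMonHom.one_hom (cmp h.sq).symm.hom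
      have h2 : (η[Red.bc f A] : 𝟙_ (Over T) ⟶ Red.bc f A).left ≫ (cmp h.sq).inv.left =
          (η[X] : 𝟙_ (Over T) ⟶ X).left := congrArg CommaMorphism.left h1
      rw [h2, hc]
    · rw [← map_pow, cube_eq hℓ h hc hr.cls, ← pull_comp, cmp_inv_fst]
  · intro k
    have h1 := hr.pts k
    have h2 : (tp X s (I k)).left ≫ r = f ≫ (tp A sU (I k)).left ≫ rU := by
      rw [← h.hr, ← Category.assoc, tp_cart hA h hX, Category.assoc]
    rw [← h2]
    exact h1

end univ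

/-- **CHART** -/
theorem main {g d n m : ℕ} (hg : 1 ≤ g) (hd : 1 ≤ d) (hn : 1 ≤ n) (hm : m + 1 = 6 ^ g * d)
    (hHilb : Node.Hilb.{u} m (Phi g m)) (hAb : Node.AbLocus.{u}) (hLev : Node.LevLocus.{u})
    (hPol : Node.PolLocus.{u}) (hPU : Node.PolUniq.{u}) (hCl : Node.Closed.{u} g d n m)
    (hUn : Node.Uniq.{u} g d n m) (hNb : Node.NormBc.{u} g n m) (hHN : HilbNorm.{u} g d n m)
    (hRk : RankHilb.{u} g m) : Node.Chart.{u} g d n m := by
  intro I
  obtain ⟨U, A, G, rU, sU, hUN, hUft, hUg, hA, huniv⟩ := exists_abelian hHilb hAb (2 * g) g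
  obtain ⟨N, hN⟩ : ∃ N : Pic U, pull (η[A] : 𝟙_ (Over U) ⟶ A).left (pull rU (o1 m) * pull A.hom N) = 1 := by
    refine ⟨(pull (η[A] : 𝟙_ (Over U) ⟶ A).left (pull rU (o1 m)))⁻¹, ?_⟩
    rw [map_mul, ← pull_comp _ A.hom]
    have h1 : (η[A] : 𝟙_ (Over U) ⟶ A).left ≫ A.hom = 𝟙 U := Over.w (η[A] : 𝟙_ (Over U) ⟶ A)
    rw [h1]
    refine (congrArg (_ * ·) (pull_id _)).trans ?_
    exact mul_inv_cancel _
  obtain ⟨M, z, ⟨⟨hz1, hz2⟩, hz3⟩, hM⟩ := repr_cond hA hg hd hn hm hLev hPol hRk I hUg hN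
  have hzm : Mono z := hz1
  have hzf : LocallyOfFiniteType z := hz2
  have hzq : QuasiCompact z := hz3
  have hMN : IsNoetherian M := by
    have h1 := LocallyOfFiniteType.isLocallyNoetherian z
    have h2 : CompactSpace M := QuasiCompact.compactSpace_of_compactSpace z
    exact ⟨⟩
  obtain ⟨⟨hMlev, cM, hMrig, hMpol, hMcube⟩, hMfr⟩ := (hM M z).2 ⟨𝟙 M, Category.id_comp z⟩
  let M' : Over SZ.{u} := Over.mk (specULiftZIsTerminal.from M)
  let ξ : Core M' g := ⟨Red.bc z A, inferInstance, cM, fun i => secBc z (sU i)⟩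
  let rM : (Red.bc z A).left ⟶ PZ.{u} m := pullback.fst A.hom z ≫ rU
  have hξok : Core.ok g d n M' ξ := ⟨isAbSch_bc z hA, isCommMonObj (isAbSch_bc z hA), hMrig, hMpol, hMlev⟩
  have hMcart : CartU (X := Red.bc z A) (fun i => secBc z (sU i)) sU rM rU z (pullback.fst A.hom z) :=
    cartU_bc z sU rU
  have hξr : NormEmb ξ.X ξ.c ξ.σ I rM := by
    constructor
    · refine ⟨pull z N⁻¹, ?_⟩
      change pull (pullback.fst A.hom z ≫ rU) (o1 m) = cM ^ 3 * pull (Red.bc z A).hom (pull z N⁻¹)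
      rw [hMcube, pull_comp, ← pull_comp (Red.bc z A).hom z, map_mul, map_inv, ← pull_comp _ A.hom,
        ← hMcart.sq.w]
      group
    · intro k
      have h1 := tp_cart hA hMcart (isAbSch_bc z hA) (I k)
      change IsStd k ((tp (Red.bc z A) (fun i => secBc z (sU i)) (I k)).left ≫ pullback.fst A.hom z ≫ rU)
      rw [← Category.assoc, h1, Category.assoc]
      exact hMfr k
  refine ⟨M', ξ, hMN, ?_, ⟨hξok, rM, hξr⟩, ?_⟩
  · have h1 := hUft (specULiftZIsTerminal.from U)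
    have h2 : specULiftZIsTerminal.from M = z ≫ specULiftZIsTerminal.from U := specULiftZIsTerminal.hom_ext _ _
    change LocallyOfFiniteType (specULiftZIsTerminal.from M)
    rw [h2]
    infer_instance
  intro T x hT hx0
  change Core T g at x
  obtain ⟨hx1, r, hr⟩ := hx0
  have hx : Core.ok g d n T x := hx1
  change ∃! G' : T ⟶ M', Core.r T (ξ.pull G') x
  have hTN : IsLocallyNoetherian T.left := hT
  have hXg := hHN T x hT hx I r hr (hCl T x hT hx I r hr)
  obtain ⟨⟨u, q, hq', hη⟩, huq⟩ := huniv T.left x.X r x.σ hXg hx.ab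
  have hq : CartU x.σ sU r rU u q := cart_cons (s' := (Fin.cons η[A] sU : Fin (2 * g + 1) → (𝟙_ (Over U) ⟶ A))) hq' hη
  obtain ⟨g₀, hg₀⟩ := (hM T.left u).1 (cond_of_cart hA hN hq hx.ab hx.rig hx.pol hx.level hr)
  subst hg₀
  have hcub := cube_eq hN hq hx.rig hr.cls
  refine ⟨Over.homMk g₀ (specULiftZIsTerminal.hom_ext _ _), ?_, ?_⟩
  · -- existence
    obtain ⟨q₁, hq₁, hc₁⟩ := hMcart.exists_lift (f := g₀) (q₀ := q) hq
    have hc₁' : CartU x.σ ξ.σ r rM g₀ q₁ := hc₁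
    have hm := isMonHom_cmp (isAbSch_bc z hA) hc₁' hx.ab
    have hmi : IsMonHom (cmp hc₁'.sq).symm.hom := isMonHom_inv (cmp hc₁'.sq)
    have hcm : IsCommMonObj (Red.bc g₀ ξ.X) := isCommMonObj (isAbSch_bc g₀ (isAbSch_bc z hA))
    refine ⟨(cmp hc₁'.sq).symm, hmi, ?_, ?_⟩
    · refine hPU T.left (Red.bc g₀ ξ.X) g d (isAbSch_bc g₀ (isAbSch_bc z hA)) _ _
        (K116.ChIso.isPolCl_of_iso hx.ab (cmp hc₁'.sq).symm hx.pol)
        (K116.ChPol.isPolCl_bc g₀ (isAbSch_bc z hA) hMpol) ?_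
      change (pull (cmp hc₁'.sq).inv.left x.c) ^ 3 = (pull (pullback.fst (Red.bc z A).hom g₀) cM) ^ 3
      rw [← map_pow, ← map_pow, hcub, hMcube, ← pull_comp, ← pull_comp, ← hq₁, cmp_inv_fst_assoc]
    · intro i
      have h1 := comp_cmp' hc₁' i
      have h2 : secBc g₀ (ξ.σ i) ≫ (cmp hc₁'.sq).inv = x.σ i := by
        rw [← h1, Category.assoc, Iso.hom_inv_id, Category.comp_id]
      exact h2
  · -- uniqueness
    have key : ∀ G' : T ⟶ M', Core.r T (ξ.pull G') x → G'.left ≫ z = g₀ ≫ z := by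
      intro G' hG'
      obtain ⟨e, he, hec, heσ⟩ := hG'
      have hei : IsMonHom e.symm.hom := isMonHom_inv e
      have hσ : ∀ i, x.σ i ≫ e.symm.hom = (ξ.pull G').σ i := fun i => by
        rw [← heσ i, Category.assoc, Iso.symm_hom, Iso.hom_inv_id, Category.comp_id]
      have hc : pull e.symm.hom.left (ξ.pull G').c = x.c := by
        rw [← hec, ← pull_comp]
        have h1 : e.inv.left ≫ e.hom.left = 𝟙 x.X.left := congrArg CommaMorphism.left e.inv_hom_id
        exact (congrArg (fun f => pull f x.c) h1).trans (pull_id _)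
      have h1 := hNb.iso x (ξ.pull G') I _ e.symm hei hc hσ (hNb.bc G' ξ I rM hξr)
      have h2 := hUn T x hT hx I _ _ h1 hr
      have h3 : IsPullback (e.symm.hom.left ≫ pullback.fst ξ.X.hom G'.left) x.X.hom ξ.X.hom G'.left := by
        have h4 : IsPullback e.symm.hom.left x.X.hom (Red.bc G'.left ξ.X).hom (𝟙 _) :=
          IsPullback.of_horiz_isIso ⟨by rw [Category.comp_id]; exact Over.w e.symm.hom⟩
        have h5 := h4.paste_horiz (IsPullback.of_hasPullback ξ.X.hom G'.left)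
        rw [Category.id_comp] at h5
        exact h5
      have h6 : CartU x.σ ξ.σ r rM G'.left (e.symm.hom.left ≫ pullback.fst ξ.X.hom G'.left) := by
        refine ⟨h3, by rw [Category.assoc]; exact h2, fun i => ?_⟩
        refine Fin.cases ?_ (fun i => ?_) i
        · have h7 : η[x.X] ≫ e.symm.hom = η[(ξ.pull G').X] := IsMonHom.one_hom e.symm.hom
          have h8 : (η[Red.bc G'.left ξ.X] : 𝟙_ (Over T.left) ⟶ Red.bc G'.left ξ.X) = secBc G'.left η[ξ.X] :=
            eta_bc G'.left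
          have h9 := congrArg (fun w => w.left ≫ pullback.fst ξ.X.hom G'.left) (h7.trans h8)
          refine Eq.trans ?_ (h9.trans (secBc_fst G'.left η[ξ.X]))
          exact (Category.assoc _ _ _).symm
        · have h9 := congrArg (fun w => w.left ≫ pullback.fst ξ.X.hom G'.left) (hσ i)
          refine Eq.trans ?_ (h9.trans (secBc_fst G'.left (ξ.σ i)))
          exact (Category.assoc _ _ _).symm
      have h10 := h6.comp hMcart
      obtain ⟨h11, h12⟩ := cart_tail h10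
      exact huq _ _ _ _ h11 h12 hq' hη
    intro G' hG'
    have h1 := key G' hG'
    ext1
    exact (cancel_mono z).1 h1

end K116.ChMain
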