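import Groth.Agent.AgPol.K116.ChIso
import Groth.Agent.AgPol.K116.ChGrp
import Groth.Agent.AgPol.K513.PolUniq

/-!
# Piece `COREISO` of the quasi-projectivity of `A_{g,d,n}`

Isomorphisms of abelian schemes respecting the unit, the sections and some power of the polarisation classes
are isomorphisms of core families.
-/

set_option autoImplicit false
universe u

open CategoryTheory Limits MonoidalCategory CartesianMonoidalCategory AlgebraicGeometry
open scoped MonObj

namespace K116.QPCoreR

open Groth.Agent.Grpsch.PicGrp K117.Ag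

noncomputable section

/-- **COREISO**. -/
theorem core_r {S : Scheme.{u}} {T : Over S} [IsLocallyNoetherian T.left] {g d n : ℕ} (x y : Core T g)
    (hx : Core.ok g d n T x) (hy : Core.ok g d n T y) (θ : x.X ≅ y.X) (h1 : η[x.X] ≫ θ.hom = η[y.X])
    (hs : ∀ i, x.σ i ≫ θ.hom = y.σ i) (K : ℕ) (hK : 1 ≤ K)
    (hc : pull θ.hom.left (y.c ^ K) = x.c ^ K) : Core.r T x y := by
  have hm : IsMonHom θ.hom := K116.ChGrp.isMonHom_of_unit hx.ab hy.ab θ.hom h1
  refine ⟨θ, hm, ?_, hs⟩
  have := hx.comm
  have h2 : IsPolCl x.X d (pull θ.hom.left y.c) := K116.ChIso.isPolCl_of_iso hy.ab θ hy.pol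
  refine K513.PolUniq.pow_inj x.X g d K hK hx.ab _ _ h2 hx.pol ?_
  rw [← hc, map_pow]

end

end K116.QPCoreR
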